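import Groth.Agent.Hensel.LiftEtaleAlg
import Groth.Agent.S0089
import Mathlib.AlgebraicGeometry.Morphisms.Etale
import Mathlib.AlgebraicGeometry.Morphisms.Finite
import Mathlib.AlgebraicGeometry.PullbackCarrier
import Mathlib.AlgebraicGeometry.Limits

/-!
# Affine étale schemes over closed subschemes of normal affine schemes with separably closed
function field
-/

set_option autoImplicit false

universe u

open CategoryTheory CategoryTheory.Limits AlgebraicGeometry TopologicalSpace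
open scoped TensorProduct

namespace Groth.Agent.SepClosedAffine

set_option backward.isDefEq.respectTransparency.types false

/-- affine etale schemes over a closed subscheme of an affine scheme lift -/
theorem exists_affine_lift {V Z X : Scheme.{u}} [IsAffine X] (i : Z ⟶ X) [IsClosedImmersion i]
    (φ : V ⟶ Z) [AlgebraicGeometry.Etale φ] [IsAffine V] :
    ∃ (U : Scheme.{u}) (g : U ⟶ X) (p : V ⟶ U), AlgebraicGeometry.Etale g ∧ IsAffine U ∧
      IsPullback p φ g i := by
  have hsurj : Function.Surjective i.appTop := (IsClosedImmersion.isAffine_surjective_of_isAffine i).2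
  have : IsAffine Z := isAffine_of_isAffineHom i
  algebraize [i.appTop.hom, φ.appTop.hom]
  have : Algebra.Etale Γ(Z, ⊤) Γ(V, ⊤) :=
    RingHom.etale_algebraMap.1 (HasRingHomProperty.appTop (P := @AlgebraicGeometry.Etale) φ ‹_›)
  obtain ⟨B, _, _, hB, ⟨ε⟩⟩ := Groth.Agent.Hensel.exists_etale_algebra_lift
    (A := Γ(X, ⊤)) (T := Γ(Z, ⊤)) (C := Γ(V, ⊤)) hsurj
  let T : CommRingCat.{u} := CommRingCat.of (Γ(Z, ⊤) ⊗[Γ(X, ⊤)] B)
  let e : Spec T ≅ V := Scheme.Spec.mapIso (ε.symm.toRingEquiv.toCommRingCatIso (R := Γ(V, ⊤)) (S := T)).op ≪≫ V.isoSpec.symm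
  let g : Spec (CommRingCat.of B) ⟶ X :=
    Spec.map (CommRingCat.ofHom (algebraMap Γ(X, ⊤) B)) ≫ X.isoSpec.inv
  have hg : AlgebraicGeometry.Etale g := by
    have : AlgebraicGeometry.Etale (Spec.map (CommRingCat.ofHom (algebraMap Γ(X, ⊤) B))) := by
      rw [HasRingHomProperty.Spec_iff (P := @AlgebraicGeometry.Etale)]
      exact RingHom.etale_algebraMap.2 hB
    infer_instance
  refine ⟨_, g, e.inv ≫ Spec.map (CommRingCat.ofHom
    (Algebra.TensorProduct.includeRight (R := Γ(X, ⊤)) (A := Γ(Z, ⊤)) (B := B)).toRingHom), hg,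
    inferInstance, ?_⟩
  refine (isPullback_SpecMap_of_isPushout _ _ _ _
    (CommRingCat.isPushout_tensorProduct Γ(X, ⊤) Γ(Z, ⊤) B)).flip.of_iso e (Iso.refl _) Z.isoSpec.symm
      X.isoSpec.symm ?_ ?_ ?_ ?_
  · simp
  · rw [show e.hom = Spec.map (CommRingCat.ofHom ε.symm.toRingEquiv.toRingHom) ≫ V.isoSpec.inv from rfl,
      Category.assoc, ← Scheme.isoSpec_inv_naturality, ← Category.assoc, ← Spec.map_comp]
    congr 2
    ext t
    exact (ε.symm.commutes t).symm
  · simp [g]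
  · exact Scheme.isoSpec_inv_naturality i

/-- An affine etale scheme over a closed subscheme of a normal integral affine scheme with
separably closed function field is covered by finitely many disjoint open sections. -/
theorem exists_sections {V Z X : Scheme.{u}} [IsAffine X] [IsIntegral X]
    (hN : ∀ x : X, IsIntegrallyClosed (X.presheaf.stalk x)) [IsSepClosed X.functionField]
    (i : Z ⟶ X) [IsClosedImmersion i] (φ : V ⟶ Z) [AlgebraicGeometry.Etale φ] [IsAffine V] :
    ∃ (ι : Type u) (_ : Finite ι) (W : ι → Z.Opens) (s : ∀ k, (W k : Scheme.{u}) ⟶ V),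
      (∀ k, IsOpenImmersion (s k)) ∧ (∀ k, s k ≫ φ = (W k).ι) ∧
      (∀ v : V, ∃ k w, s k w = v) ∧
      ∀ k k', k ≠ k' → Disjoint (Set.range (s k)) (Set.range (s k')) := by
  obtain ⟨U, g, p, hg, _, sq⟩ := exists_affine_lift i φ
  obtain ⟨κ, O, e, he⟩ := Groth.Agent.S0089.result hN g
  let τ : ∀ k, (O k : Scheme.{u}) ⟶ U := fun k => Sigma.ι (fun k => (O k : Scheme.{u})) k ≫ e.hom
  let s : ∀ k, (i ⁻¹ᵁ O k : Scheme.{u}) ⟶ V := fun k =>
    sq.lift ((i ∣_ O k) ≫ τ k) (i ⁻¹ᵁ O k).ι (by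
      rw [Category.assoc, show τ k ≫ g = (O k).ι by simp only [τ, Category.assoc, he],
        morphismRestrict_ι])
  have hs : ∀ k, s k ≫ φ = (i ⁻¹ᵁ O k).ι := fun k => sq.lift_snd _ _ _
  have hsp : ∀ k, s k ≫ p = (i ∣_ O k) ≫ τ k := fun k => sq.lift_fst _ _ _
  have hleft : ∀ k, IsPullback (s k) (i ∣_ O k) p (τ k) := fun k => by
    refine IsPullback.of_right ?_ (hsp k) sq.flip
    rw [show τ k ≫ g = (O k).ι by simp only [τ, Category.assoc, he], hs k]
    exact (isPullback_morphismRestrict i (O k)).flip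
  have hopen : ∀ k, IsOpenImmersion (s k) := fun k =>
    MorphismProperty.of_isPullback (P := @IsOpenImmersion) (hleft k).flip inferInstance
  have hrange : ∀ k, Set.range (s k) = p ⁻¹' Set.range (τ k) := fun k => by
    rw [← (hleft k).isoPullback_hom_fst]
    rw [Scheme.Hom.comp_base, TopCat.coe_comp, Function.Surjective.range_comp
      (show Function.Surjective ⇑(hleft k).isoPullback.hom from (hleft k).isoPullback.hom.homeomorph.surjective), Scheme.Pullback.range_fst]
  have hτdisj : ∀ k k', k ≠ k' → Disjoint (Set.range (τ k)) (Set.range (τ k')) := by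
    intro k k' hne
    rw [Set.disjoint_left]
    rintro _ ⟨a, rfl⟩ ⟨b, hb⟩
    exact (disjoint_opensRange_sigmaι (fun k => (O k : Scheme.{u})) k k' hne).le_bot
      (x := Sigma.ι (fun k => (O k : Scheme.{u})) k a) ⟨⟨a, rfl⟩, ⟨b, e.hom.homeomorph.injective hb⟩⟩
  have hcov : ∀ v : V, ∃ k, v ∈ Set.range (s k) := fun v => by
    obtain ⟨k, a, ha⟩ := (sigmaOpenCover (fun k => (O k : Scheme.{u}))).exists_eq (e.inv (p v))
    refine ⟨k, ?_⟩
    rw [hrange]
    refine ⟨a, ?_⟩
    show e.hom (Sigma.ι (fun k => (O k : Scheme.{u})) k a) = p v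
    rw [show Sigma.ι (fun k => (O k : Scheme.{u})) k a = e.inv (p v) from ha, ← Scheme.Hom.comp_apply,
      e.inv_hom_id]
    rfl
  obtain ⟨F, hF⟩ := (isCompact_univ (X := V)).elim_finite_subcover (fun k => Set.range (s k))
    (fun k => (hopen k).base_open.isOpen_range) fun v _ => Set.mem_iUnion.2 (hcov v)
  refine ⟨F, inferInstance, fun k => i ⁻¹ᵁ O k.1, fun k => s k.1, fun k => hopen _, fun k => hs _,
    fun v => ?_, fun k k' hne => ?_⟩
  · obtain ⟨k, hk, w, hw⟩ := Set.mem_iUnion₂.1 (hF (Set.mem_univ v))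
    exact ⟨⟨k, hk⟩, w, hw⟩
  · rw [hrange, hrange]
    exact (hτdisj _ _ fun h => hne (Subtype.ext h)).preimage _

theorem exists_decomposition {V Z X : Scheme.{u}} [IsAffine X] [IsIntegral X]
    (hN : ∀ x : X, IsIntegrallyClosed (X.presheaf.stalk x)) [IsSepClosed X.functionField]
    (i : Z ⟶ X) [IsClosedImmersion i] (φ : V ⟶ Z) [AlgebraicGeometry.Etale φ] [IsAffine V] :
    ∃ (ι : Type u) (_ : Finite ι) (W : ι → Z.Opens) (e : (∐ fun k => (W k : Scheme.{u})) ≅ V),
      ∀ k, Sigma.ι (fun k => (W k : Scheme.{u})) k ≫ e.hom ≫ φ = (W k).ι := by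
  obtain ⟨ι, hι, W, s, hopen, hs, hcov, hdisj⟩ := exists_sections hN i φ
  have := hopen
  obtain ⟨hc⟩ := nonempty_isColimit_cofanMk_of s
    (by
      rw [eq_top_iff]
      intro v _
      obtain ⟨k, w, rfl⟩ := hcov v
      exact Opens.mem_iSup.2 ⟨k, w, rfl⟩)
    (fun k k' hne => by
      rw [Function.onFun_apply, disjoint_iff, Opens.ext_iff]
      simpa [Scheme.Hom.coe_opensRange] using (hdisj k k' hne).inter_eq)
  let e : (∐ fun k => (W k : Scheme.{u})) ≅ V := (coproductIsCoproduct _).coconePointUniqueUpToIso hc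
  refine ⟨ι, hι, W, e, fun k => ?_⟩
  rw [← Category.assoc]
  have : Sigma.ι (fun k => (W k : Scheme.{u})) k ≫ e.hom = s k :=
    (coproductIsCoproduct _).comp_coconePointUniqueUpToIso_hom hc ⟨k⟩
  rw [this, hs]

theorem exists_section {V Z X : Scheme.{u}} [IsAffine X] [IsIntegral X]
    (hN : ∀ x : X, IsIntegrallyClosed (X.presheaf.stalk x)) [IsSepClosed X.functionField]
    (i : Z ⟶ X) [IsClosedImmersion i] (φ : V ⟶ Z) [AlgebraicGeometry.Etale φ] [IsFinite φ]
    [Surjective φ] : ∃ t : Z ⟶ V, t ≫ φ = 𝟙 Z := by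
  classical
  have : IsAffine Z := isAffine_of_isAffineHom i
  have : IsAffine V := isAffine_of_isAffineHom φ
  obtain ⟨ι, _, W, s, hopen, hs, hcov, hdisj⟩ := exists_sections hN i φ
  have hclosed : ∀ k, IsClosed (W k : Set Z) := fun k => by
    have h1 : IsClosed (Set.range (s k)) := by
      rw [← isOpen_compl_iff]
      have : (Set.range (s k))ᶜ = ⋃ (k' : {k' // k' ≠ k}), Set.range (s k'.1) := by
        ext v
        refine ⟨fun hv => ?_, fun hv hv' => ?_⟩
        · obtain ⟨k', w, rfl⟩ := hcov v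
          exact Set.mem_iUnion.2 ⟨⟨k', fun h => hv (h ▸ ⟨w, rfl⟩)⟩, w, rfl⟩
        · obtain ⟨⟨k', hne⟩, hk'⟩ := Set.mem_iUnion.1 hv
          exact Set.disjoint_left.1 (hdisj _ _ hne) hk' hv'
      rw [this]
      exact isOpen_iUnion fun k' => (hopen k'.1).base_open.isOpen_range
    have h2 := φ.isClosedMap _ h1
    rwa [← Set.range_comp, ← TopCat.coe_comp, ← Scheme.Hom.comp_base, hs,
      Scheme.Opens.range_ι] at h2
  let enum : ι ≃ Fin (Nat.card ι) := Finite.equivFin ι
  let P : ι → Z.Opens := fun k =>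
    ⟨(W k : Set Z) \ ⋃ j : {j // enum j < enum k}, (W j.1 : Set Z),
      (W k).2.sdiff (isClosed_iUnion_of_finite fun j => hclosed j.1)⟩
  have hP : ∀ k, P k ≤ W k := fun k => Set.sdiff_subset
  have hPdisj : ∀ k k', k ≠ k' → Disjoint (P k : Set Z) (P k') := by
    intro k k' hne
    rcases lt_or_gt_of_ne (fun h => hne (enum.injective h)) with h | h
    · exact Set.disjoint_left.2 fun z hz hz' => hz'.2 (Set.mem_iUnion.2 ⟨⟨k, h⟩, hz.1⟩)
    · exact Set.disjoint_left.2 fun z hz hz' => hz.2 (Set.mem_iUnion.2 ⟨⟨k', h⟩, hz'.1⟩)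
  have hPcov : ∀ z : Z, ∃ k, z ∈ P k := fun z => by
    have hne : (Finset.univ.filter fun j : Fin (Nat.card ι) => z ∈ W (enum.symm j)).Nonempty := by
      obtain ⟨v, rfl⟩ := φ.surjective z
      obtain ⟨k, w, rfl⟩ := hcov v
      refine ⟨enum k, ?_⟩
      rw [Finset.mem_filter, Equiv.symm_apply_apply, ← Scheme.Hom.comp_apply, hs]
      exact ⟨Finset.mem_univ _, w.2⟩
    refine ⟨enum.symm (Finset.min' _ hne), (Finset.mem_filter.1 (Finset.min'_mem _ hne)).2, ?_⟩
    intro hz
    obtain ⟨⟨j, hj⟩, hjz⟩ := Set.mem_iUnion.1 hz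
    rw [Equiv.apply_symm_apply] at hj
    refine hj.not_ge (Finset.min'_le _ _ ?_)
    rw [Finset.mem_filter, Equiv.symm_apply_apply]
    exact ⟨Finset.mem_univ _, hjz⟩
  obtain ⟨hc⟩ := nonempty_isColimit_cofanMk_of (fun k => (P k).ι)
    (by
      rw [eq_top_iff]
      intro z _
      obtain ⟨k, hk⟩ := hPcov z
      exact Opens.mem_iSup.2 ⟨k, ⟨z, hk⟩, rfl⟩)
    (fun k k' hne => by
      rw [Function.onFun_apply, disjoint_iff, Opens.ext_iff]
      simpa [Scheme.Hom.coe_opensRange] using (hPdisj k k' hne).inter_eq)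
  refine ⟨Cofan.IsColimit.desc hc fun k => Z.homOfLE (hP k) ≫ s k, Cofan.IsColimit.hom_ext hc _ _ fun k => ?_⟩
  rw [← Category.assoc, Cofan.IsColimit.fac, Category.assoc, hs, Scheme.homOfLE_ι]
  exact (Category.comp_id _).symm

end Groth.Agent.SepClosedAffine
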